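import Mathlib

/-!
The field with 16 elements `F₂[x]/(x⁴+x+1)` by packed tables, fast in the kernel.
-/

set_option autoImplicit false

namespace Cfsg.Agent.Unital16

/-- Packed multiplication table. -/
def mulTab : ℕ := 116196760129267793630862849262464326346044543732748708940920453221664288556434379745879494961270582141731748813355742142288220638766218855867759359510984593843506004200114943278699875244065120512813025380665946106619127097398772031257643617143689515450995722003729973585221105779229319991106539050771048038400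
/-- Packed inversion table. -/
def invTab : ℕ := 9460475325918865680
/-- Packed table of `x ↦ x⁴`. -/
def cjTab : ℕ := 9924487649903846160

def addN (a b : ℕ) : ℕ := a ^^^ b
def mulN (a b : ℕ) : ℕ := (mulTab >>> (4 * (16 * a + b))) % 16
def invN (a : ℕ) : ℕ := (invTab >>> (4 * a)) % 16
def cjN (a : ℕ) : ℕ := (cjTab >>> (4 * a)) % 16

/-- The field with 16 elements. -/
structure K16 where
  /-- The code of an element. -/
  v : Fin 16
deriving DecidableEq

/-- `K16` as `Fin 16`. -/
def equivFin : K16 ≃ Fin 16 := ⟨K16.v, K16.mk, fun _ => rfl, fun _ => rfl⟩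

instance fintypeK16 : Fintype K16 := Fintype.ofEquiv _ equivFin.symm
instance addK16 : Add K16 := ⟨fun a b => ⟨Fin.ofNat 16 (addN a.v b.v)⟩⟩
instance mulK16 : Mul K16 := ⟨fun a b => ⟨Fin.ofNat 16 (mulN a.v b.v)⟩⟩
instance invK16 : Inv K16 := ⟨fun a => ⟨Fin.ofNat 16 (invN a.v)⟩⟩
instance negK16 : Neg K16 := ⟨id⟩
instance zeroK16 : Zero K16 := ⟨⟨0⟩⟩
instance oneK16 : One K16 := ⟨⟨1⟩⟩

theorem addN_lt : ∀ a b : Fin 16, addN a b < 16 := by decide +kernel

theorem val_add (a b : K16) : ((a + b).v : ℕ) = addN a.v b.v :=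
  Nat.mod_eq_of_lt (addN_lt a.v b.v)

theorem val_mul (a b : K16) : ((a * b).v : ℕ) = mulN a.v b.v :=
  Nat.mod_eq_of_lt (Nat.mod_lt _ (by norm_num))

theorem val_inv (a : K16) : ((a⁻¹).v : ℕ) = invN a.v :=
  Nat.mod_eq_of_lt (Nat.mod_lt _ (by norm_num))

theorem forall_K16 {P : K16 → Prop} (h : ∀ a : Fin 16, P ⟨a⟩) : ∀ x, P x := fun x => h x.v

theorem assoc_tables : ∀ a b c : Fin 16,
    addN (addN a b) c = addN a (addN b c) ∧ mulN (mulN a b) c = mulN a (mulN b c) ∧
      mulN a (addN b c) = addN (mulN a b) (mulN a c) := by decide +kernel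

theorem comm_tables : ∀ a b : Fin 16, mulN a b = mulN b a ∧ addN a b = addN b a := by
  decide +kernel

theorem unit_tables : ∀ a : Fin 16, addN 0 a = a ∧ addN a a = 0 ∧ mulN 1 a = a ∧
    (a ≠ 0 → mulN a (invN a) = 1) := by decide +kernel

theorem ext_val {a b : K16} (h : (a.v : ℕ) = b.v) : a = b := by
  cases a; cases b; exact congrArg _ (Fin.ext h)

instance fieldK16 : Field K16 :=
  Field.ofMinimalAxioms K16
    (fun a b c => ext_val (by simp only [val_add]; exact (assoc_tables a.v b.v c.v).1))
    (fun a => ext_val (by rw [val_add]; exact (unit_tables a.v).1))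
    (fun a => ext_val (by rw [val_add]; exact (unit_tables a.v).2.1))
    (fun a b c => ext_val (by simp only [val_mul]; exact (assoc_tables a.v b.v c.v).2.1))
    (fun a b => ext_val (by simp only [val_mul]; exact (comm_tables a.v b.v).1))
    (fun a => ext_val (by rw [val_mul]; exact (unit_tables a.v).2.2.1))
    (fun a ha => ext_val (by
      rw [val_mul, val_inv]
      exact (unit_tables a.v).2.2.2 (fun h => ha (ext_val (congrArg Fin.val h)))))
    (ext_val (by decide))
    (fun a b c => ext_val (by
      simp only [val_mul, val_add]; exact (assoc_tables a.v b.v c.v).2.2))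
    ⟨0, 1, by decide⟩

theorem card_K16 : Fintype.card K16 = 16 := by
  rw [Fintype.card_congr equivFin, Fintype.card_fin]

instance charP_K16 : CharP K16 2 := by
  have h : (2 : K16) = 0 := by
    rw [← one_add_one_eq_two]
    exact ext_val (by decide)
  exact CharTwo.of_one_ne_zero_of_two_eq_zero one_ne_zero h

theorem pow_four_eq (a : K16) : a ^ 4 = ⟨Fin.ofNat 16 (cjN a.v)⟩ := by
  have h : ∀ a : Fin 16, mulN (mulN a a) (mulN a a) = cjN a := by decide +kernel
  refine ext_val ?_
  rw [pow_succ, pow_succ, pow_two, mul_assoc]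
  simp only [val_mul]
  rw [h]
  exact (Nat.mod_eq_of_lt (Nat.mod_lt _ (by norm_num))).symm

theorem val_pow_four (a : K16) : ((a ^ 4).v : ℕ) = cjN a.v := by
  rw [pow_four_eq]
  exact Nat.mod_eq_of_lt (Nat.mod_lt _ (by norm_num))

theorem add_pow_four (a b : K16) : (a + b) ^ 4 = a ^ 4 + b ^ 4 := by
  have : Fact (Nat.Prime 2) := ⟨Nat.prime_two⟩
  simpa using add_pow_char_pow (p := 2) (n := 2) (x := a) (y := b)

theorem pow_sixteen (a : K16) : a ^ 16 = a := by
  simpa [card_K16] using FiniteField.pow_card a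

end Cfsg.Agent.Unital16
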