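import Cfsg.Prelude.Def_Classical
import Cfsg.Agent.Lib.Unital16.Field
import Cfsg.Agent.Lib.GL.Basic

/-!
`SU₃(4)` over `K16`: trivial centre, no elements of order 7 or 17, `169 ∤` order,
explicit elements of order 10, 13, 15, and `PSU₃(4) ≅ SU₃(4)` over any field of order 16.
-/

set_option autoImplicit false

namespace Cfsg.Agent.Unital16

open Matrix

/-- The element with code `a`. -/
def k (a : Fin 16) : K16 := ⟨a⟩

/-- The group `SU₃(4)`. -/
abbrev U3 : Subgroup (SpecialLinearGroup (Fin 3) K16) := Cfsg.SU 3 K16 4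

theorem slToMat_apply {F : Type*} [Field F] {n : ℕ} (g : SpecialLinearGroup (Fin n) F) :
    Cfsg.slToMat n F g = (g : Matrix (Fin n) (Fin n) F) := rfl

theorem mem_U3_iff {g : SpecialLinearGroup (Fin 3) K16} :
    g ∈ U3 ↔ ∀ i j : Fin 3, ∑ l, g l i * g l j ^ 4 = if i = j then 1 else 0 := by
  constructor
  · intro h i j
    have h1 := h (Pi.single i 1) (Pi.single j 1)
    simp only [slToMat_apply, Cfsg.hermForm] at h1
    fin_cases i <;> fin_cases j <;> simpa [Fin.sum_univ_three] using h1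
  · intro h u v
    have h00 := h 0 0; have h01 := h 0 1; have h02 := h 0 2
    have h10 := h 1 0; have h11 := h 1 1; have h12 := h 1 2
    have h20 := h 2 0; have h21 := h 2 1; have h22 := h 2 2
    simp [Fin.sum_univ_three] at h00 h01 h02 h10 h11 h12 h20 h21 h22
    simp [slToMat_apply, Cfsg.hermForm, mulVec, dotProduct, Fin.sum_univ_three,
      add_pow_four, mul_pow]
    linear_combination (u 0 * v 0 ^ 4) * h00 + (u 0 * v 1 ^ 4) * h01 + (u 0 * v 2 ^ 4) * h02
      + (u 1 * v 0 ^ 4) * h10 + (u 1 * v 1 ^ 4) * h11 + (u 1 * v 2 ^ 4) * h12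
      + (u 2 * v 0 ^ 4) * h20 + (u 2 * v 1 ^ 4) * h21 + (u 2 * v 2 ^ 4) * h22

/-- An element of order 13. -/
def g13 : U3 := ⟨⟨!![k 3, k 8, k 3; k 12, k 10, k 10; k 3, k 12, k 7], by rw [det_fin_three]; decide +kernel⟩,
  mem_U3_iff.2 (by decide +kernel)⟩

/-- An element of order 10. -/
def g10 : U3 := ⟨⟨!![k 14, k 8, k 4; k 4, k 5, k 10; k 15, k 4, k 4], by rw [det_fin_three]; decide +kernel⟩,
  mem_U3_iff.2 (by decide +kernel)⟩

/-- An element of order 15. -/
def g15 : U3 := ⟨⟨!![k 1, k 5, k 4; k 14, k 5, k 12; k 9, k 1, k 6], by rw [det_fin_three]; decide +kernel⟩,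
  mem_U3_iff.2 (by decide +kernel)⟩

theorem orderOf_g13 : orderOf g13 = 13 := by
  have : Fact (Nat.Prime 13) := ⟨by norm_num⟩
  exact orderOf_eq_prime (by decide +kernel) (by decide +kernel)

theorem orderOf_g10 : orderOf g10 = 10 :=
  orderOf_eq_of_pow_and_pow_div_prime (by norm_num) (by decide +kernel) (fun p hp hd => by
    have : p ∈ Nat.divisors 10 := Nat.mem_divisors.2 ⟨hd, by norm_num⟩
    rw [show Nat.divisors 10 = {1, 2, 5, 10} by decide] at this
    simp at this
    rcases this with rfl | rfl | rfl | rfl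
    · exact absurd hp (by norm_num)
    · decide +kernel
    · decide +kernel
    · exact absurd hp (by norm_num))

theorem orderOf_g15 : orderOf g15 = 15 :=
  orderOf_eq_of_pow_and_pow_div_prime (by norm_num) (by decide +kernel) (fun p hp hd => by
    have : p ∈ Nat.divisors 15 := Nat.mem_divisors.2 ⟨hd, by norm_num⟩
    rw [show Nat.divisors 15 = {1, 3, 5, 15} by decide] at this
    simp at this
    rcases this with rfl | rfl | rfl | rfl
    · exact absurd hp (by norm_num)
    · decide +kernel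
    · decide +kernel
    · exact absurd hp (by norm_num))

theorem card_SL3 : Nat.card (SpecialLinearGroup (Fin 3) K16) = 4096 * (255 * 4095) := by
  rw [GL.card_SL_prod, card_K16,
    Finset.prod_Ico_succ_top (show 2 ≤ 3 by norm_num), Finset.prod_Ico_succ_top (show 2 ≤ 2 from le_rfl)]
  simp

theorem card_U3_dvd : Nat.card U3 ∣ 4096 * (255 * 4095) :=
  card_SL3 ▸ Subgroup.card_subgroup_dvd_card U3

theorem trace_sq (M : Matrix (Fin 3) (Fin 3) K16) : (M * M).trace = M.trace ^ 2 := by
  have two : (2 : K16) = 0 := CharTwo.two_eq_zero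
  simp [Matrix.trace, Fin.sum_univ_three, Matrix.mul_apply]
  linear_combination (M 0 1 * M 1 0 + M 0 2 * M 2 0 + M 1 2 * M 2 1
    - M 0 0 * M 1 1 - M 0 0 * M 2 2 - M 1 1 * M 2 2) * two

theorem trace_two_pow (M : Matrix (Fin 3) (Fin 3) K16) (n : ℕ) :
    (M ^ (2 ^ n)).trace = M.trace ^ (2 ^ n) := by
  induction n with
  | zero => simp
  | succ n ih => rw [pow_succ, pow_mul, pow_two (M ^ (2 ^ n)), trace_sq, ih, ← pow_mul]

theorem cayley_three (M : Matrix (Fin 3) (Fin 3) K16) :
    M ^ 3 - M.trace • M ^ 2 + M.adjugate.trace • M - M.det • (1 : Matrix (Fin 3) (Fin 3) K16) = 0 := by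
  rw [pow_succ M 2, pow_two]
  ext i j
  fin_cases i <;> fin_cases j <;>
    simp [Matrix.trace, Fin.sum_univ_three, Matrix.mul_apply, det_fin_three,
      adjugate_fin_three] <;> ring

theorem trace_inv {g : SpecialLinearGroup (Fin 3) K16} (hg : g ∈ U3) :
    ((g⁻¹ : SpecialLinearGroup (Fin 3) K16) : Matrix (Fin 3) (Fin 3) K16).trace =
      (g : Matrix (Fin 3) (Fin 3) K16).trace ^ 4 := by
  set M : Matrix (Fin 3) (Fin 3) K16 := (g : Matrix (Fin 3) (Fin 3) K16)
  have h1 : (M.map (fun x => x ^ 4))ᵀ * M = 1 := by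
    ext i j
    rw [Matrix.mul_apply, Matrix.one_apply]
    simp only [transpose_apply, map_apply]
    have := mem_U3_iff.1 hg j i
    simp only [M]
    rw [Finset.sum_congr rfl fun l _ => mul_comm (g l i ^ 4) (g l j), this]
    simp [eq_comm]
  have hd : M.det = 1 := g.2
  have h2 : (M.map (fun x => x ^ 4))ᵀ = M.adjugate := by
    have := congrArg (· * M.adjugate) h1
    simpa [Matrix.mul_assoc, mul_adjugate, hd] using this
  show M.adjugate.trace = _
  rw [← h2, trace_transpose]
  simp [Matrix.trace, Fin.sum_univ_three, add_pow_four]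

theorem rel_three {g : SpecialLinearGroup (Fin 3) K16} (hg : g ∈ U3) :
    (g : Matrix (Fin 3) (Fin 3) K16) ^ 3 =
      (g : Matrix (Fin 3) (Fin 3) K16).trace • (g : Matrix (Fin 3) (Fin 3) K16) ^ 2
      + ((g : Matrix (Fin 3) (Fin 3) K16).trace ^ 4) • (g : Matrix (Fin 3) (Fin 3) K16) + 1 := by
  have h := cayley_three (g : Matrix (Fin 3) (Fin 3) K16)
  have h2 : (g : Matrix (Fin 3) (Fin 3) K16).adjugate.trace =
      (g : Matrix (Fin 3) (Fin 3) K16).trace ^ 4 := trace_inv hg
  rw [g.2, one_smul, h2] at h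
  rw [sub_eq_zero] at h
  have hneg : ∀ X : Matrix (Fin 3) (Fin 3) K16, -X = X := fun X => by
    ext i j; exact CharTwo.neg_eq (X i j)
  have h' := eq_add_neg_of_add_eq h
  rw [hneg, sub_eq_iff_eq_add] at h'
  rw [h']
  abel

theorem pow_seven_eq_one {g : U3} (h : g ^ 7 = 1) : g = 1 := by
  have two : (2 : K16) = 0 := CharTwo.two_eq_zero
  set M : Matrix (Fin 3) (Fin 3) K16 := ((g : SpecialLinearGroup (Fin 3) K16) : Matrix (Fin 3) (Fin 3) K16) with hM
  have h7 : M ^ 7 = 1 := by
    have := congrArg (fun x : U3 => ((x : SpecialLinearGroup (Fin 3) K16) : Matrix (Fin 3) (Fin 3) K16)) h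
    simpa [hM] using this
  have hrel := rel_three g.2
  rw [← hM] at hrel
  have h8 := trace_two_pow M 3
  rw [show (2 : ℕ) ^ 3 = 7 + 1 from rfl, pow_succ, h7, one_mul] at h8
  have ht : M.trace ^ 2 = M.trace := by
    conv_rhs => rw [← pow_sixteen M.trace]
    rw [show (16 : ℕ) = (7 + 1) * 2 from rfl, pow_mul, ← h8]
  have h21 : g ^ 3 = 1 ∨ g ^ 4 = 1 := by
    have : M.trace = 0 ∨ M.trace = 1 := by
      have : M.trace * (M.trace - 1) = 0 := by linear_combination ht
      rcases mul_eq_zero.1 this with e | e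
      · exact Or.inl e
      · exact Or.inr (sub_eq_zero.1 e)
    rcases this with e | e
    · left
      rw [e] at hrel
      simp at hrel
      exact Subtype.ext (Subtype.ext (by simpa [hM] using hrel))
    · right
      rw [e] at hrel
      simp at hrel
      have h4 : M ^ 4 = 1 := by
        rw [pow_succ, hrel, add_mul, add_mul, ← pow_succ, hrel, ← pow_two, one_mul]
        ext i j
        simp
        linear_combination ((M ^ 2) i j + M i j) * two
      exact Subtype.ext (Subtype.ext (by simpa [hM] using h4))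
  rcases h21 with e | e
  · have := (pow_gcd_eq_one (a := g) (m := 7) (n := 3)).2 ⟨h, e⟩
    simpa using this
  · have := (pow_gcd_eq_one (a := g) (m := 7) (n := 4)).2 ⟨h, e⟩
    simpa using this

theorem pow_seventeen_eq_one {g : U3} (h : g ^ 17 = 1) : g = 1 := by
  have two : (2 : K16) = 0 := CharTwo.two_eq_zero
  set M : Matrix (Fin 3) (Fin 3) K16 := ((g : SpecialLinearGroup (Fin 3) K16) : Matrix (Fin 3) (Fin 3) K16) with hM
  have hrel := rel_three g.2
  rw [← hM] at hrel
  have h16 : ((g⁻¹ : U3) : SpecialLinearGroup (Fin 3) K16) = (g : SpecialLinearGroup (Fin 3) K16) ^ 16 := by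
    rw [← SubgroupClass.coe_pow]
    exact congrArg Subtype.val (inv_eq_of_mul_eq_one_right (by rw [← pow_succ', h]))
  have ht : M.trace ^ 4 = M.trace := by
    have h0 := trace_inv g.2
    rw [← Subgroup.coe_inv, h16] at h0
    have e16 : (((g : SpecialLinearGroup (Fin 3) K16) ^ 16 : SpecialLinearGroup (Fin 3) K16) :
        Matrix (Fin 3) (Fin 3) K16) = M ^ 16 :=
      Matrix.SpecialLinearGroup.coe_pow (g : SpecialLinearGroup (Fin 3) K16) 16
    have h1 : (M ^ 16).trace = M.trace ^ 4 := (congrArg Matrix.trace e16).symm.trans h0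
    rw [show (16 : ℕ) = 2 ^ 4 from rfl, trace_two_pow] at h1
    rw [← h1]
    exact pow_sixteen _
  rw [ht] at hrel
  have hcases : g ^ 3 = 1 ∨ g ^ 4 = 1 ∨ g ^ 5 = 1 := by
    have : M.trace = 0 ∨ M.trace = 1 ∨ M.trace ^ 2 + M.trace + 1 = 0 := by
      have : M.trace * ((M.trace - 1) * (M.trace ^ 2 + M.trace + 1)) = 0 := by
        linear_combination ht
      rcases mul_eq_zero.1 this with e | e
      · exact Or.inl e
      rcases mul_eq_zero.1 e with e | e
      · exact Or.inr (Or.inl (sub_eq_zero.1 e))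
      · exact Or.inr (Or.inr e)
    rcases this with e | e | e
    · left
      rw [e] at hrel
      simp at hrel
      exact Subtype.ext (Subtype.ext (by simpa [hM] using hrel))
    · right; left
      rw [e] at hrel
      simp at hrel
      have h4 : M ^ 4 = 1 := by
        rw [pow_succ, hrel, add_mul, add_mul, ← pow_succ, hrel, ← pow_two, one_mul]
        ext i j
        simp
        linear_combination ((M ^ 2) i j + M i j) * two
      exact Subtype.ext (Subtype.ext (by simpa [hM] using h4))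
    · right; right
      set t := M.trace
      have h4 : M ^ 4 = M ^ 2 + t • M + t • (1 : Matrix (Fin 3) (Fin 3) K16) := by
        rw [pow_succ M 3, hrel, add_mul, add_mul, smul_mul_assoc, smul_mul_assoc,
          ← pow_succ, hrel, ← pow_two, one_mul]
        ext i j
        simp only [Matrix.add_apply, Matrix.smul_apply, smul_eq_mul]
        linear_combination ((M ^ 2) i j + M i j) * e + (-(M ^ 2) i j - t * M i j) * two
      have h5 : M ^ 5 = 1 := by
        rw [pow_succ, h4, add_mul, add_mul, smul_mul_assoc, smul_mul_assoc, one_mul,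
          ← pow_succ, hrel, ← pow_two]
        ext i j
        simp only [Matrix.add_apply, Matrix.smul_apply, smul_eq_mul]
        linear_combination (t * (M ^ 2) i j + t * M i j) * two
      exact Subtype.ext (Subtype.ext (by simpa [hM] using h5))
  rcases hcases with e | e | e
  · simpa using (pow_gcd_eq_one (a := g) (m := 17) (n := 3)).2 ⟨h, e⟩
  · simpa using (pow_gcd_eq_one (a := g) (m := 17) (n := 4)).2 ⟨h, e⟩
  · simpa using (pow_gcd_eq_one (a := g) (m := 17) (n := 5)).2 ⟨h, e⟩

/-- The primes dividing `|SU₃(4)|`. -/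
theorem prime_dvd_card {p : ℕ} (hp : p.Prime) (h : p ∣ Nat.card U3) :
    p = 2 ∨ p = 3 ∨ p = 5 ∨ p = 13 := by
  have h2 : p ∣ 2 ^ 12 * (3 ^ 3 * (5 ^ 2 * (7 * (13 * 17)))) := by
    have := h.trans card_U3_dvd
    norm_num at this ⊢
    exact this
  have : Fact p.Prime := ⟨hp⟩
  obtain ⟨g, hg⟩ := exists_prime_orderOf_dvd_card' p h
  have hpow : g ^ p = 1 := hg ▸ pow_orderOf_eq_one g
  rcases hp.dvd_mul.1 h2 with d | d
  · exact Or.inl ((Nat.prime_dvd_prime_iff_eq hp Nat.prime_two).1 (hp.dvd_of_dvd_pow d))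
  rcases hp.dvd_mul.1 d with d | d
  · exact Or.inr (Or.inl ((Nat.prime_dvd_prime_iff_eq hp Nat.prime_three).1 (hp.dvd_of_dvd_pow d)))
  rcases hp.dvd_mul.1 d with d | d
  · exact Or.inr (Or.inr (Or.inl ((Nat.prime_dvd_prime_iff_eq hp Nat.prime_five).1 (hp.dvd_of_dvd_pow d))))
  rcases hp.dvd_mul.1 d with d | d
  · have := (Nat.prime_dvd_prime_iff_eq hp (by norm_num)).1 d
    subst this
    rw [pow_seven_eq_one hpow, orderOf_one] at hg
    exact absurd hg (by norm_num)
  rcases hp.dvd_mul.1 d with d | d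
  · exact Or.inr (Or.inr (Or.inr ((Nat.prime_dvd_prime_iff_eq hp (by norm_num)).1 d)))
  · have := (Nat.prime_dvd_prime_iff_eq hp (by norm_num)).1 d
    subst this
    rw [pow_seventeen_eq_one hpow, orderOf_one] at hg
    exact absurd hg (by norm_num)

/-- All subgroups of order 13 are conjugate to `⟨g13⟩`. -/
theorem conj_g13 {h : U3} (hh : orderOf h = 13) :
    ∃ (c : U3) (i : ℕ), g13 = c * h ^ i * c⁻¹ := by
  have : Fact (Nat.Prime 13) := ⟨by norm_num⟩
  have hf : (Nat.card U3).factorization 13 = 1 := by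
    have h1 : 13 ∣ Nat.card U3 := orderOf_g13 ▸ orderOf_dvd_natCard g13
    have h2 : ¬ 13 ^ 2 ∣ Nat.card U3 := fun e => by
      have := e.trans card_U3_dvd
      norm_num at this
    have hne : Nat.card U3 ≠ 0 := Nat.card_pos.ne'
    have hp : Nat.Prime 13 := by norm_num
    have := (hp.pow_dvd_iff_le_factorization hne (k := 1)).1 (by simpa using h1)
    have := mt (hp.pow_dvd_iff_le_factorization hne (k := 2)).2 h2
    omega
  have hc : ∀ x : U3, orderOf x = 13 →
      Nat.card (Subgroup.zpowers x) = 13 ^ (Nat.card U3).factorization 13 := fun x hx => by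
    rw [Nat.card_zpowers, hx, hf, pow_one]
  let P := Sylow.ofCard (Subgroup.zpowers h) (hc h hh)
  let Q := Sylow.ofCard (Subgroup.zpowers g13) (hc g13 orderOf_g13)
  obtain ⟨c, hcPQ⟩ := MulAction.exists_smul_eq U3 P Q
  have hm : g13 ∈ (c • P : Sylow 13 U3).toSubgroup := by
    rw [hcPQ]; exact Subgroup.mem_zpowers g13
  obtain ⟨y, hy, hy'⟩ := Subgroup.mem_pointwise_smul_iff_inv_smul_mem.1 hm |> fun h' =>
    (⟨c⁻¹ * g13 * c, by simpa [P, MulAut.smul_def] using h', by group⟩ :
      ∃ y, y ∈ Subgroup.zpowers h ∧ g13 = c * y * c⁻¹)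
  obtain ⟨i, rfl⟩ := (mem_powers_iff_mem_zpowers (x := h)).2 hy
  exact ⟨c, i, hy'⟩

theorem center_eq_bot : Subgroup.center U3 = ⊥ := by
  refine (Subgroup.eq_bot_iff_forall _).2 fun z hz => ?_
  let d : U3 := ⟨⟨!![1, 0, 0; 0, k 8, 0; 0, 0, k 15],
    by rw [det_fin_three]; decide +kernel⟩, mem_U3_iff.2 (by decide +kernel)⟩
  let c : U3 := ⟨⟨!![0, 0, 1; 1, 0, 0; 0, 1, 0], by rw [det_fin_three]; decide +kernel⟩,
    mem_U3_iff.2 (by decide +kernel)⟩
  have hdc := fun x : U3 => congrArg
    (fun y : U3 => ((y : SpecialLinearGroup (Fin 3) K16) : Matrix (Fin 3) (Fin 3) K16))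
    (Subgroup.mem_center_iff.1 hz x)
  obtain ⟨⟨Z, hZdet⟩, hZ⟩ := z
  have hd : (!![1, 0, 0; 0, k 8, 0; 0, 0, k 15] : Matrix (Fin 3) (Fin 3) K16) * Z =
      Z * !![1, 0, 0; 0, k 8, 0; 0, 0, k 15] := hdc d
  have hc : (!![0, 0, 1; 1, 0, 0; 0, 1, 0] : Matrix (Fin 3) (Fin 3) K16) * Z =
      Z * !![0, 0, 1; 1, 0, 0; 0, 1, 0] := hdc c
  have ne1 : k 8 ≠ (1 : K16) := by decide +kernel
  have ne2 : k 15 ≠ (1 : K16) := by decide +kernel
  have ne3 : k 8 ≠ k 15 := by decide +kernel
  have e01 := congrFun (congrFun hd 0) 1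
  have e02 := congrFun (congrFun hd 0) 2
  have e10 := congrFun (congrFun hd 1) 0
  have e12 := congrFun (congrFun hd 1) 2
  have e20 := congrFun (congrFun hd 2) 0
  have e21 := congrFun (congrFun hd 2) 1
  have c10 := congrFun (congrFun hc 1) 0
  have c21 := congrFun (congrFun hc 2) 1
  simp [Matrix.mul_apply, Fin.sum_univ_three] at e01 e02 e10 e12 e20 e21 c10 c21
  have z01 : Z 0 1 = 0 := by
    by_contra h; exact ne1 (mul_left_cancel₀ h (by linear_combination -e01))
  have z02 : Z 0 2 = 0 := by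
    by_contra h; exact ne2 (mul_left_cancel₀ h (by linear_combination -e02))
  have z10 : Z 1 0 = 0 := by
    by_contra h; exact ne1 (mul_left_cancel₀ h (by linear_combination e10))
  have z20 : Z 2 0 = 0 := by
    by_contra h; exact ne2 (mul_left_cancel₀ h (by linear_combination e20))
  have z12 : Z 1 2 = 0 := by
    by_contra h; exact ne3 (mul_left_cancel₀ h (by linear_combination e12))
  have z21 : Z 2 1 = 0 := by
    by_contra h; exact ne3 (mul_left_cancel₀ h (by linear_combination -e21))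
  have h00 : Z 0 0 * Z 0 0 ^ 4 = 1 := by
    have := mem_U3_iff.1 hZ 0 0
    simpa [Fin.sum_univ_three, z10, z20] using this
  have h3 : Z 0 0 ^ 3 = 1 := by
    rw [det_fin_three, z01, z02, z10, z12, z20, z21, ← c21, ← c10] at hZdet
    linear_combination hZdet
  have hone : Z 0 0 = 1 := by
    have h5 : Z 0 0 ^ 5 = 1 := by linear_combination h00
    simpa using (pow_gcd_eq_one (a := Z 0 0) (m := 3) (n := 5)).2 ⟨h3, h5⟩
  refine Subtype.ext (Subtype.ext ?_)
  show Z = 1
  ext i j
  fin_cases i <;> fin_cases j <;> simp [z01, z02, z10, z12, z20, z21, hone]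
  · rw [← c10, hone]
  · rw [← c21, ← c10, hone]

/-- `PSU₃(4)` over any field of order 16 is `SU₃(4)` over `K16`. -/
theorem nonempty_psu_equiv {F : Type*} [Field F] [Fintype F] (hF : Fintype.card F = 16) :
    Nonempty (Cfsg.PSU 3 F 4 ≃* U3) := by
  let e : F ≃+* K16 := FiniteField.ringEquivOfCardEq (by rw [hF, card_K16])
  let E : SpecialLinearGroup (Fin 3) F ≃* SpecialLinearGroup (Fin 3) K16 :=
    { toFun := SpecialLinearGroup.map e.toRingHom
      invFun := SpecialLinearGroup.map e.symm.toRingHom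
      left_inv := fun g => by ext i j; simp
      right_inv := fun g => by ext i j; simp
      map_mul' := map_mul _ }
  have he : ∀ u v : Fin 3 → F, Cfsg.hermForm 3 K16 4 (e ∘ u) (e ∘ v) = e (Cfsg.hermForm 3 F 4 u v) := by
    intro u v; simp [Cfsg.hermForm, map_sum]
  have hE : ∀ (g : SpecialLinearGroup (Fin 3) F) (u : Fin 3 → F),
      Cfsg.slToMat 3 K16 (E g) *ᵥ (e ∘ u) = e ∘ (Cfsg.slToMat 3 F g *ᵥ u) := by
    intro g u; ext i
    simp [slToMat_apply, E, mulVec, dotProduct, map_sum]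
  have hmem : ∀ g, g ∈ Cfsg.SU 3 F 4 ↔ E g ∈ U3 := by
    intro g
    constructor
    · intro h u v
      obtain ⟨u, rfl⟩ : ∃ w, e ∘ w = u := ⟨e.symm ∘ u, by ext; simp⟩
      obtain ⟨v, rfl⟩ : ∃ w, e ∘ w = v := ⟨e.symm ∘ v, by ext; simp⟩
      rw [hE, hE, he, he, h]
    · intro h u v
      have := h (e ∘ u) (e ∘ v)
      rw [hE, hE, he, he] at this
      exact e.injective this
  let E' : Cfsg.SU 3 F 4 ≃* U3 :=
    { toFun := fun g => ⟨E g, (hmem g).1 g.2⟩
      invFun := fun g => ⟨E.symm g, (hmem _).2 (by rw [E.apply_symm_apply]; exact g.2)⟩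
      left_inv := fun g => Subtype.ext (E.symm_apply_apply _)
      right_inv := fun g => Subtype.ext (E.apply_symm_apply _)
      map_mul' := fun a b => Subtype.ext (map_mul E _ _) }
  have hc : Subgroup.center (Cfsg.SU 3 F 4) = ⊥ := by
    refine (Subgroup.eq_bot_iff_forall _).2 fun z hz => E'.injective ?_
    rw [map_one]
    have : E' z ∈ Subgroup.center U3 := Subgroup.mem_center_iff.2 fun y => by
      obtain ⟨x, rfl⟩ := E'.surjective y
      rw [← map_mul, ← map_mul, Subgroup.mem_center_iff.1 hz x]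
    rwa [center_eq_bot, Subgroup.mem_bot] at this
  exact ⟨((QuotientGroup.quotientMulEquivOfEq hc).trans QuotientGroup.quotientBot).trans E'⟩

end Cfsg.Agent.Unital16
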