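import Cfsg.Agent.Lib.Unital16.Group

/-!
The characteristic 5 module of `SU₃(4)` cut out of the functions on the 65 isotropic points by the
208 secant-line sums; elements of order 13 fix only zero.
-/

set_option autoImplicit false

namespace Cfsg.Agent.Unital16

open Matrix

/-- Normalised vector number `i` of the projective plane. -/
def ptN (i : ℕ) : ℕ × ℕ × ℕ :=
  if i < 256 then (1, i / 16, i % 16) else if i < 272 then (0, 1, i - 256) else (0, 0, 1)

def hN (u v : ℕ × ℕ × ℕ) : ℕ :=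
  addN (addN (mulN u.1 (cjN v.1)) (mulN u.2.1 (cjN v.2.1))) (mulN u.2.2 (cjN v.2.2))

def isoN (i : ℕ) : Bool := Nat.beq (hN (ptN i) (ptN i)) 0
def okN (p b : ℕ) : Bool := isoN p && Nat.beq (hN (ptN p) (ptN b)) 0

/-- A normalised vector over `K16`. -/
def pt (i : Fin 273) : Fin 3 → K16 :=
  ![⟨Fin.ofNat 16 (ptN i).1⟩, ⟨Fin.ofNat 16 (ptN i).2.1⟩, ⟨Fin.ofNat 16 (ptN i).2.2⟩]

/-- The number of the projective point through a vector. -/
def idxV (v : Fin 3 → K16) : Fin 273 :=
  if v 0 = 0 then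
    if v 1 = 0 then 272 else Fin.ofNat 273 (256 + ((v 1)⁻¹ * v 2).v)
  else Fin.ofNat 273 (16 * ((v 0)⁻¹ * v 1).v + ((v 0)⁻¹ * v 2).v)

theorem pt_ne_zero : ∀ i : Fin 273, pt i ≠ 0 := by
  intro i h
  have h' : ∀ i : Fin 273, (pt i 0 ≠ 0 ∨ pt i 1 ≠ 0) ∨ pt i 2 ≠ 0 := by decide +kernel
  rcases h' i with (e | e) | e <;> exact e (congrFun h _)

theorem idxV_pt : ∀ i : Fin 273, idxV (pt i) = i := by decide +kernel

theorem idxV_smul (v : Fin 3 → K16) {c : K16} (hc : c ≠ 0) : idxV (c • v) = idxV v := by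
  simp only [idxV, Pi.smul_apply, smul_eq_mul, mul_eq_zero, hc, false_or]
  have : ∀ x y : K16, (c * x)⁻¹ * (c * y) = x⁻¹ * y := fun x y => by
    rw [mul_inv]; field_simp
  simp only [this]

theorem pt_table : ∀ y z : Fin 16,
    pt (Fin.ofNat 273 (16 * (y : ℕ) + z)) = ![1, ⟨y⟩, ⟨z⟩] ∧
      pt (Fin.ofNat 273 (256 + (z : ℕ))) = ![0, 1, ⟨z⟩] ∧ pt 272 = ![0, 0, 1] := by
  decide +kernel

theorem exists_smul_pt {v : Fin 3 → K16} (hv : v ≠ 0) :
    ∃ c : K16, c ≠ 0 ∧ pt (idxV v) = c • v := by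
  by_cases h0 : v 0 = 0
  · by_cases h1 : v 1 = 0
    · have h2 : v 2 ≠ 0 := fun h2 => hv (by ext i; fin_cases i <;> simp [h0, h1, h2])
      refine ⟨(v 2)⁻¹, inv_ne_zero h2, ?_⟩
      simp only [idxV, h0, h1, if_true]
      rw [(pt_table 0 0).2.2]
      ext i; fin_cases i <;> simp [h0, h1, inv_mul_cancel₀ h2]
    · refine ⟨(v 1)⁻¹, inv_ne_zero h1, ?_⟩
      simp only [idxV, h0, h1, if_true, if_false]
      rw [(pt_table 0 _).2.1]
      ext i; fin_cases i <;> simp [h0, inv_mul_cancel₀ h1]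
  · refine ⟨(v 0)⁻¹, inv_ne_zero h0, ?_⟩
    simp only [idxV, h0, if_false]
    rw [(pt_table _ _).1]
    ext i; fin_cases i <;> simp [inv_mul_cancel₀ h0]

/-- Isotropic. -/
def Iso (p : Fin 273) : Prop := Cfsg.hermForm 3 K16 4 (pt p) (pt p) = 0
/-- Orthogonal. -/
def Orth (p b : Fin 273) : Prop := Cfsg.hermForm 3 K16 4 (pt p) (pt b) = 0

theorem eq_zero_iff_val {a : K16} : a = 0 ↔ (a.v : ℕ) = 0 :=
  ⟨fun h => by rw [h]; rfl, fun h => ext_val h⟩

theorem herm_val (i j : Fin 273) :
    ((Cfsg.hermForm 3 K16 4 (pt i) (pt j)).v : ℕ) = hN (ptN i) (ptN j) := by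
  have hlt : ∀ i : Fin 273, (ptN i).1 < 16 ∧ (ptN i).2.1 < 16 ∧ (ptN i).2.2 < 16 := by
    decide +kernel
  obtain ⟨a1, a2, a3⟩ := hlt i
  obtain ⟨b1, b2, b3⟩ := hlt j
  simp only [Cfsg.hermForm, Fin.sum_univ_three, val_add, val_mul, val_pow_four, pt, hN,
    Matrix.cons_val_zero, Matrix.cons_val_one, Matrix.cons_val, Fin.val_ofNat,
    Nat.mod_eq_of_lt a1, Nat.mod_eq_of_lt a2, Nat.mod_eq_of_lt a3,
    Nat.mod_eq_of_lt b1, Nat.mod_eq_of_lt b2, Nat.mod_eq_of_lt b3]

theorem iso_iff (p : Fin 273) : Iso p ↔ isoN p = true := by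
  rw [Iso, eq_zero_iff_val, herm_val, isoN]
  exact ⟨fun h => by rw [h]; rfl, Nat.eq_of_beq_eq_true⟩

theorem orth_iff (p b : Fin 273) : Orth p b ↔ Nat.beq (hN (ptN p) (ptN b)) 0 = true := by
  rw [Orth, eq_zero_iff_val, herm_val]
  exact ⟨fun h => by rw [h]; rfl, Nat.eq_of_beq_eq_true⟩

theorem ok_iff (p b : Fin 273) : Iso p ∧ Orth p b ↔ okN p b = true := by
  rw [iso_iff, orth_iff, okN, Bool.and_eq_true]

instance decIso (p : Fin 273) : Decidable (Iso p) := decidable_of_iff _ (iso_iff p).symm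
instance decOrth (p b : Fin 273) : Decidable (Orth p b) := decidable_of_iff _ (orth_iff p b).symm

/-- The point map of an element. -/
def sig (g : U3) (p : Fin 273) : Fin 273 :=
  idxV (((g : SpecialLinearGroup (Fin 3) K16) : Matrix (Fin 3) (Fin 3) K16) *ᵥ pt p)

theorem sig_one (p : Fin 273) : sig 1 p = p := by
  rw [sig, show (((1 : U3) : SpecialLinearGroup (Fin 3) K16) : Matrix (Fin 3) (Fin 3) K16) = 1 from rfl,
    one_mulVec, idxV_pt]

theorem exists_sig (g : U3) (p : Fin 273) : ∃ c : K16, c ≠ 0 ∧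
    pt (sig g p) = c • (((g : SpecialLinearGroup (Fin 3) K16) : Matrix (Fin 3) (Fin 3) K16) *ᵥ pt p) := by
  refine exists_smul_pt fun h => pt_ne_zero p ?_
  have h2 : (((g⁻¹ * g : U3) : SpecialLinearGroup (Fin 3) K16) : Matrix (Fin 3) (Fin 3) K16) *ᵥ pt p = 0 := by
    show ((((g⁻¹ : U3) : SpecialLinearGroup (Fin 3) K16) : Matrix (Fin 3) (Fin 3) K16) *
      ((g : SpecialLinearGroup (Fin 3) K16) : Matrix (Fin 3) (Fin 3) K16)) *ᵥ pt p = 0
    rw [← mulVec_mulVec, h, mulVec_zero]
  rw [inv_mul_cancel] at h2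
  rwa [show (((1 : U3) : SpecialLinearGroup (Fin 3) K16) : Matrix (Fin 3) (Fin 3) K16) = 1 from rfl,
    one_mulVec] at h2

theorem sig_mul (g h : U3) (p : Fin 273) : sig (g * h) p = sig g (sig h p) := by
  obtain ⟨c, hc, e⟩ := exists_sig h p
  conv_rhs => rw [sig, e, mulVec_smul, idxV_smul _ hc, mulVec_mulVec]
  rfl

theorem orth_sig (g : U3) (p b : Fin 273) : Orth (sig g p) (sig g b) ↔ Orth p b := by
  obtain ⟨c, hc, e⟩ := exists_sig g p
  obtain ⟨d, hd, f⟩ := exists_sig g b
  rw [Orth, Orth, e, f]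
  have hg := g.2 (pt p) (pt b)
  rw [slToMat_apply] at hg
  have hs : ∀ u v : Fin 3 → K16, Cfsg.hermForm 3 K16 4 (c • u) (d • v) =
      c * d ^ 4 * Cfsg.hermForm 3 K16 4 u v := fun u v => by
    simp [Cfsg.hermForm, Fin.sum_univ_three, mul_pow]; ring
  rw [hs, hg]
  simp [hc, hd]

theorem iso_sig (g : U3) (p : Fin 273) : Iso (sig g p) ↔ Iso p := orth_sig g p p

/-- `sig g` as a permutation. -/
def sigPerm (g : U3) : Equiv.Perm (Fin 273) :=
  ⟨sig g, sig g⁻¹, fun p => by rw [← sig_mul, inv_mul_cancel, sig_one],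
    fun p => by rw [← sig_mul, mul_inv_cancel, sig_one]⟩

/-- The admissible point functions. -/
def IsW (f : Fin 273 → ZMod 5) : Prop :=
  (∀ p, ¬ Iso p → f p = 0) ∧
    ∀ b, ¬ Iso b → ∑ p, (if Iso p ∧ Orth p b then f p else 0) = 0

theorem isW_comp (g : U3) {f : Fin 273 → ZMod 5} (hf : IsW f) :
    IsW (fun p => f (sig g p)) := by
  refine ⟨fun p hp => hf.1 _ fun h => hp ((iso_sig g p).1 h), fun b hb => ?_⟩
  refine Eq.trans ?_ ((Equiv.sum_comp (sigPerm g) _).trans
    (hf.2 (sig g b) fun h => hb ((iso_sig g b).1 h)))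
  refine Finset.sum_congr rfl fun p _ => ?_
  simp only [sigPerm, Equiv.coe_fn_mk, iso_sig, orth_sig]

theorem isW_add {f f' : Fin 273 → ZMod 5} (h : IsW f) (h' : IsW f') : IsW (f + f') := by
  refine ⟨fun p hp => by simp [h.1 p hp, h'.1 p hp], fun b hb => ?_⟩
  rw [show (∑ p, if Iso p ∧ Orth p b then (f + f') p else 0) =
      (∑ p, if Iso p ∧ Orth p b then f p else 0) + ∑ p, if Iso p ∧ Orth p b then f' p else 0 by
    rw [← Finset.sum_add_distrib]
    exact Finset.sum_congr rfl fun p _ => by split_ifs <;> simp, h.2 b hb, h'.2 b hb, add_zero]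

theorem isW_neg {f : Fin 273 → ZMod 5} (h : IsW f) : IsW (-f) := by
  refine ⟨fun p hp => by simp [h.1 p hp], fun b hb => ?_⟩
  rw [show (∑ p, if Iso p ∧ Orth p b then (-f) p else 0) =
      -(∑ p, if Iso p ∧ Orth p b then f p else 0) by
    rw [← Finset.sum_neg_distrib]
    exact Finset.sum_congr rfl fun p _ => by split_ifs <;> simp, h.2 b hb, neg_zero]

theorem isW_zero : IsW 0 := ⟨fun _ _ => rfl, fun b _ => by simp⟩

/-- Differences of a point function on pairs of isotropic points. -/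
def diff (f : Fin 273 → ZMod 5) : Fin 273 × Fin 273 → ZMod 5 :=
  fun x => if Iso x.1 ∧ Iso x.2 then f x.1 - f x.2 else 0

/-- The module: admissible functions modulo constants, seen through their differences. -/
def Mod : AddSubgroup (Fin 273 × Fin 273 → ZMod 5) where
  carrier := {d | ∃ f, IsW f ∧ d = diff f}
  zero_mem' := ⟨0, isW_zero, by ext x; simp [diff]⟩
  add_mem' := by
    rintro _ _ ⟨f, hf, rfl⟩ ⟨f', hf', rfl⟩
    refine ⟨f + f', isW_add hf hf', funext fun x => ?_⟩
    simp only [diff, Pi.add_apply]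
    split_ifs <;> ring
  neg_mem' := by
    rintro _ ⟨f, hf, rfl⟩
    refine ⟨-f, isW_neg hf, funext fun x => ?_⟩
    simp only [diff, Pi.neg_apply]
    split_ifs <;> ring

theorem diff_comp (g : U3) (f : Fin 273 → ZMod 5) (x : Fin 273 × Fin 273) :
    diff f (sig g x.1, sig g x.2) = diff (fun p => f (sig g p)) x := by
  simp only [diff, iso_sig]

instance actMod : DistribMulAction U3 Mod where
  smul g d := ⟨fun x => d.1 (sig g⁻¹ x.1, sig g⁻¹ x.2), by
    obtain ⟨f, hf, e⟩ := d.2
    exact ⟨_, isW_comp g⁻¹ hf, funext fun x => by rw [e, diff_comp]⟩⟩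
  one_smul d := Subtype.ext (funext fun x => by
    show d.1 (sig 1⁻¹ x.1, sig 1⁻¹ x.2) = _
    simp [sig_one])
  mul_smul a b d := Subtype.ext (funext fun x => by
    show d.1 (sig (a * b)⁻¹ x.1, sig (a * b)⁻¹ x.2) =
      d.1 (sig b⁻¹ (sig a⁻¹ x.1), sig b⁻¹ (sig a⁻¹ x.2))
    rw [_root_.mul_inv_rev, sig_mul, sig_mul])
  smul_zero _ := rfl
  smul_add _ _ _ := rfl

theorem mod_five (d : Mod) : 5 • d = 0 :=
  Subtype.ext (funext fun x => ZModModule.char_nsmul_eq_zero 5 (d.1 x))

/-- Packed values of a nonconstant admissible function. -/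
def wTab : ℕ := 3421830463216646414490998011881890570708101152116102619558650545713185621785482240359482258124162633629140525690464398532306009028508395936051979666463059266430717310781666346437565997043941384
/-- Packed orbit labels of `g13` on isotropic points. -/
def oTab : ℕ := 113460433084471270382389989179341609480636895356457563242733861757985979530342850044670338342589936623885393315868339382359608318774584333822729658061545797318673526092715094484052058871499882081107365911295836234844264446671803203077403574272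
def wN (i : ℕ) : ℕ := (wTab >>> (3 * i)) % 8
def oN (i : ℕ) : ℕ := (oTab >>> (3 * i)) % 8

/-- `g13` on codes. -/
def g13N (v : ℕ × ℕ × ℕ) : ℕ × ℕ × ℕ :=
  (addN (addN (mulN 3 v.1) (mulN 8 v.2.1)) (mulN 3 v.2.2),
   addN (addN (mulN 12 v.1) (mulN 10 v.2.1)) (mulN 10 v.2.2),
   addN (addN (mulN 3 v.1) (mulN 12 v.2.1)) (mulN 7 v.2.2))

def idxN (v : ℕ × ℕ × ℕ) : ℕ :=
  if Nat.beq v.1 0 then
    if Nat.beq v.2.1 0 then 272 else 256 + mulN (invN v.2.1) v.2.2
  else 16 * mulN (invN v.1) v.2.1 + mulN (invN v.1) v.2.2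

def sigN (i : ℕ) : ℕ := idxN (g13N (ptN i))

def iterN : ℕ → ℕ → ℕ
  | 0, i => i
  | n + 1, i => sigN (iterN n i)

theorem sigN_eq : ∀ p : Fin 273, (sig g13 p : ℕ) = sigN p := by decide +kernel

theorem iterN_eq (n : ℕ) (p : Fin 273) : (sig (g13 ^ n) p : ℕ) = iterN n p := by
  induction n with
  | zero => rw [pow_zero, sig_one]; rfl
  | succ n ih => rw [pow_succ', sig_mul, sigN_eq, ih]; rfl

/-- The witness function. -/
def fW (p : Fin 273) : ZMod 5 := (wN p : ZMod 5)

theorem wN_check : ∀ b : Fin 273, isoN b = false →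
    wN b = 0 ∧ ((List.range 273).map fun p => bif okN p b then wN p else 0).sum % 5 = 0 := by
  decide +kernel

theorem isW_fW : IsW fW := by
  have hb : ∀ b : Fin 273, ¬ Iso b → isoN b = false := fun b hb =>
    Bool.eq_false_iff.2 fun h => hb ((iso_iff b).2 h)
  refine ⟨fun p hp => by rw [fW, (wN_check p (hb p hp)).1, Nat.cast_zero], fun b hbi => ?_⟩
  have h := (wN_check b (hb b hbi)).2
  have hterm : ∀ p : Fin 273, (if Iso p ∧ Orth p b then fW p else 0) =
      ((bif okN p b then wN p else 0 : ℕ) : ZMod 5) := fun p => by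
    by_cases hc : Iso p ∧ Orth p b
    · rw [if_pos hc, (ok_iff p b).1 hc]; rfl
    · rw [if_neg hc, Bool.eq_false_iff.2 fun h => hc ((ok_iff p b).2 h)]; rfl
  rw [Finset.sum_congr rfl fun p _ => hterm p, ← Nat.cast_sum,
    Fin.sum_univ_eq_sum_range (fun p => bif okN p b then wN p else 0) 273,
    ZMod.natCast_eq_zero_iff]
  exact Nat.dvd_of_mod_eq_zero h

theorem nontrivial_mod : Nontrivial Mod := by
  refine ⟨⟨diff fW, fW, isW_fW, rfl⟩, 0, fun h => ?_⟩
  have := congrArg (fun d : Mod => d.1 (8, 1)) h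
  revert this
  show diff fW (8, 1) = 0 → False
  decide +kernel

/-- The orbit label. -/
def orb (p : Fin 273) : Fin 5 := Fin.ofNat 5 (oN p)

/-- Orbit representatives. -/
def rep : Fin 5 → Fin 273 := ![1, 8, 10, 41, 57]

theorem orb_check : ∀ p : Fin 273, isoN p = true →
    ∃ k : Fin 13, iterN k (rep (orb p)) = p := by decide +kernel

def cntN (b : ℕ) (j : Fin 5) : ℕ :=
  ((List.range 273).map fun p => bif okN p b && (Fin.ofNat 5 (oN p) == j) then 1 else 0).sum

/-- Secant lines used to solve for the invariant functions. -/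
def testBlocks : List (Fin 273) := [0, 2, 4, 6, 7, 9, 11, 18, 19, 20]

theorem solve : ∀ A B C D E : ZMod 5,
    (2 * A + 1 * B + 2 * E = 0 ∧ 1 * B + 2 * D + 2 * E = 0 ∧ 1 * A + 2 * C + 2 * D = 0 ∧ 2 * C + 1 * D + 2 * E = 0 ∧ 2 * A + 2 * B + 1 * C = 0 ∧ 2 * A + 1 * C + 2 * E = 0 ∧ 1 * A + 2 * B + 2 * D = 0 ∧ 2 * A + 1 * B + 2 * D = 0 ∧ 1 * A + 2 * B + 2 * C = 0 ∧ 2 * B + 2 * D + 1 * E = 0) → B = A ∧ C = A ∧ D = A ∧ E = A := by decide +kernel

theorem cnt_check : ∀ b : Fin 273, b ∈ testBlocks → isoN b = false := by decide +kernel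

/-- An admissible function invariant under `g13` is constant on isotropic points. -/
theorem eq_const {f : Fin 273 → ZMod 5} (hf : IsW f) (hg : ∀ p, f (sig g13 p) = f p)
    {p q : Fin 273} (hp : Iso p) (hq : Iso q) : f p = f q := by
  have hpow : ∀ (n : ℕ) (p : Fin 273), f (sig (g13 ^ n) p) = f p := by
    intro n
    induction n with
    | zero => intro p; rw [pow_zero, sig_one]
    | succ n ih => intro p; rw [pow_succ', sig_mul, hg, ih]
  have horb : ∀ p : Fin 273, Iso p → f p = f (rep (orb p)) := by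
    intro p hp
    obtain ⟨k, hk⟩ := orb_check p ((iso_iff p).1 hp)
    rw [← iterN_eq] at hk
    conv_lhs => rw [← Fin.ext hk]
    exact hpow _ _
  have hsum : ∀ b : Fin 273, b ∈ testBlocks →
      ∑ j : Fin 5, (cntN b j : ZMod 5) * f (rep j) = 0 := by
    intro b hb
    have hb' : ¬ Iso b := fun h => by
      have := (iso_iff b).1 h
      rw [cnt_check b hb] at this
      exact Bool.noConfusion this
    rw [← hf.2 b hb']
    have hterm : ∀ p : Fin 273, (if Iso p ∧ Orth p b then f p else 0) =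
        ∑ j : Fin 5, ((bif okN p b && (orb p == j) then 1 else 0 : ℕ) : ZMod 5) * f (rep j) := by
      intro p
      by_cases hc : Iso p ∧ Orth p b
      · rw [if_pos hc, (ok_iff p b).1 hc, horb p hc.1, Finset.sum_eq_single (orb p)]
        · simp
        · intro j _ hj
          rw [beq_eq_false_iff_ne.2 (Ne.symm hj)]
          simp
        · simp
      · rw [if_neg hc, Bool.eq_false_iff.2 fun h => hc ((ok_iff p b).2 h)]
        simp
    rw [Finset.sum_congr rfl fun p _ => hterm p, Finset.sum_comm]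
    refine Finset.sum_congr rfl fun j _ => ?_
    simp only [orb]
    rw [← Finset.sum_mul, ← Nat.cast_sum,
      Fin.sum_univ_eq_sum_range (fun p => bif okN p b && (Fin.ofNat 5 (oN p) == j) then 1 else 0) 273]
    rfl
  have key : ∀ j, f (rep j) = f (rep 0) := by
    have e0 := hsum 0 (by decide)
    rw [Fin.sum_univ_five, show cntN (0 : Fin 273) 0 = 2 by decide +kernel,
      show cntN (0 : Fin 273) 1 = 1 by decide +kernel, show cntN (0 : Fin 273) 2 = 0 by decide +kernel,
      show cntN (0 : Fin 273) 3 = 0 by decide +kernel, show cntN (0 : Fin 273) 4 = 2 by decide +kernel] at e0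
    have e1 := hsum 2 (by decide)
    rw [Fin.sum_univ_five, show cntN (2 : Fin 273) 0 = 0 by decide +kernel,
      show cntN (2 : Fin 273) 1 = 1 by decide +kernel, show cntN (2 : Fin 273) 2 = 0 by decide +kernel,
      show cntN (2 : Fin 273) 3 = 2 by decide +kernel, show cntN (2 : Fin 273) 4 = 2 by decide +kernel] at e1
    have e2 := hsum 4 (by decide)
    rw [Fin.sum_univ_five, show cntN (4 : Fin 273) 0 = 1 by decide +kernel,
      show cntN (4 : Fin 273) 1 = 0 by decide +kernel, show cntN (4 : Fin 273) 2 = 2 by decide +kernel,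
      show cntN (4 : Fin 273) 3 = 2 by decide +kernel, show cntN (4 : Fin 273) 4 = 0 by decide +kernel] at e2
    have e3 := hsum 6 (by decide)
    rw [Fin.sum_univ_five, show cntN (6 : Fin 273) 0 = 0 by decide +kernel,
      show cntN (6 : Fin 273) 1 = 0 by decide +kernel, show cntN (6 : Fin 273) 2 = 2 by decide +kernel,
      show cntN (6 : Fin 273) 3 = 1 by decide +kernel, show cntN (6 : Fin 273) 4 = 2 by decide +kernel] at e3
    have e4 := hsum 7 (by decide)
    rw [Fin.sum_univ_five, show cntN (7 : Fin 273) 0 = 2 by decide +kernel,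
      show cntN (7 : Fin 273) 1 = 2 by decide +kernel, show cntN (7 : Fin 273) 2 = 1 by decide +kernel,
      show cntN (7 : Fin 273) 3 = 0 by decide +kernel, show cntN (7 : Fin 273) 4 = 0 by decide +kernel] at e4
    have e5 := hsum 9 (by decide)
    rw [Fin.sum_univ_five, show cntN (9 : Fin 273) 0 = 2 by decide +kernel,
      show cntN (9 : Fin 273) 1 = 0 by decide +kernel, show cntN (9 : Fin 273) 2 = 1 by decide +kernel,
      show cntN (9 : Fin 273) 3 = 0 by decide +kernel, show cntN (9 : Fin 273) 4 = 2 by decide +kernel] at e5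
    have e6 := hsum 11 (by decide)
    rw [Fin.sum_univ_five, show cntN (11 : Fin 273) 0 = 1 by decide +kernel,
      show cntN (11 : Fin 273) 1 = 2 by decide +kernel, show cntN (11 : Fin 273) 2 = 0 by decide +kernel,
      show cntN (11 : Fin 273) 3 = 2 by decide +kernel, show cntN (11 : Fin 273) 4 = 0 by decide +kernel] at e6
    have e7 := hsum 18 (by decide)
    rw [Fin.sum_univ_five, show cntN (18 : Fin 273) 0 = 2 by decide +kernel,
      show cntN (18 : Fin 273) 1 = 1 by decide +kernel, show cntN (18 : Fin 273) 2 = 0 by decide +kernel,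
      show cntN (18 : Fin 273) 3 = 2 by decide +kernel, show cntN (18 : Fin 273) 4 = 0 by decide +kernel] at e7
    have e8 := hsum 19 (by decide)
    rw [Fin.sum_univ_five, show cntN (19 : Fin 273) 0 = 1 by decide +kernel,
      show cntN (19 : Fin 273) 1 = 2 by decide +kernel, show cntN (19 : Fin 273) 2 = 2 by decide +kernel,
      show cntN (19 : Fin 273) 3 = 0 by decide +kernel, show cntN (19 : Fin 273) 4 = 0 by decide +kernel] at e8
    have e9 := hsum 20 (by decide)
    rw [Fin.sum_univ_five, show cntN (20 : Fin 273) 0 = 0 by decide +kernel,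
      show cntN (20 : Fin 273) 1 = 2 by decide +kernel, show cntN (20 : Fin 273) 2 = 0 by decide +kernel,
      show cntN (20 : Fin 273) 3 = 2 by decide +kernel, show cntN (20 : Fin 273) 4 = 1 by decide +kernel] at e9
    obtain ⟨h1, h2, h3, h4⟩ := solve (f (rep 0)) (f (rep 1)) (f (rep 2)) (f (rep 3)) (f (rep 4))
      ⟨by simpa using e0, by simpa using e1, by simpa using e2, by simpa using e3, by simpa using e4, by simpa using e5, by simpa using e6, by simpa using e7, by simpa using e8, by simpa using e9⟩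
    intro j
    fin_cases j
    · rfl
    · exact h1
    · exact h2
    · exact h3
    · exact h4
  rw [horb p hp, horb q hq, key, key (orb q)]

/-- Elements of order 13 fix only zero. -/
theorem eq_zero_of_fix {h : U3} (hh : orderOf h = 13) {d : Mod} (hd : h • d = d) : d = 0 := by
  obtain ⟨c, i, hci⟩ := conj_g13 hh
  have hpowfix : ∀ n : ℕ, h ^ n • d = d := fun n => by
    induction n with
    | zero => rw [pow_zero, one_smul]
    | succ n ih => rw [pow_succ', mul_smul, ih, hd]
  have hi := hpowfix i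
  have hcd : g13 • (c • d) = c • d := by
    rw [hci, mul_smul, mul_smul, inv_smul_smul, hi]
  suffices c • d = 0 by
    have := congrArg (c⁻¹ • ·) this
    simpa using this
  obtain ⟨f, hf, e⟩ := (c • d).2
  have hfix : g13⁻¹ • (c • d) = c • d := inv_smul_eq_iff.2 hcd.symm
  have he : ∀ p q : Fin 273, Iso p → Iso q →
      f (sig g13 p) - f (sig g13 q) = f p - f q := by
    intro p q hp hq
    have h1 := congrArg (fun z : Mod => z.1 (p, q)) hfix
    have h2 : (c • d).1 (sig g13⁻¹⁻¹ p, sig g13⁻¹⁻¹ q) = (c • d).1 (p, q) := h1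
    rw [inv_inv, e] at h2
    simpa [diff, iso_sig, hp, hq] using h2
  apply Subtype.ext
  rw [e]
  funext x
  simp only [diff, ZeroMemClass.coe_zero, Pi.zero_apply]
  split_ifs with hx
  · obtain ⟨hx1, hx2⟩ := hx
    set a := f (sig g13 x.1) - f x.1 with ha
    have hstep : ∀ (n : ℕ), f (sig (g13 ^ n) x.1) = f x.1 + n * a := by
      intro n
      induction n with
      | zero => simp [sig_one]
      | succ n ih =>
        rw [pow_succ', sig_mul]
        have := he (sig (g13 ^ n) x.1) x.1 ((iso_sig _ _).2 hx1) hx1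
        push_cast
        linear_combination this + ih - ha
    have h13 : g13 ^ 13 = 1 := orderOf_g13 ▸ pow_orderOf_eq_one g13
    have := hstep 13
    rw [h13, sig_one] at this
    have h5fact : Fact (Nat.Prime 5) := ⟨Nat.prime_five⟩
    have ha0 : a = 0 := by
      have h13a : ((13 : ℕ) : ZMod 5) * a = 0 := add_eq_left.1 this.symm
      refine (mul_eq_zero.1 h13a).resolve_left ?_
      rw [ZMod.natCast_eq_zero_iff]
      norm_num
    have hinv : ∀ p, f (sig g13 p) = f p := fun p => by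
      by_cases hp : Iso p
      · linear_combination he p x.1 hp hx1 + (ha0.symm.trans ha).symm
      · rw [hf.1 p hp, hf.1 _ fun h => hp ((iso_sig g13 p).1 h)]
    rw [eq_const hf hinv hx1 hx2, sub_self]
  · rfl

end Cfsg.Agent.Unital16
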